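import Cfsg.Agent.H6.More3
import Cfsg.Agent.H6.F4
import Cfsg.Agent.H6.G24.Main
import Cfsg.Agent.H6.Suz.Main
import Cfsg.Prelude.Def_ChevG2

set_option autoImplicit false
set_option maxRecDepth 100000
set_option Elab.async false

namespace Cfsg.H6.G24

open Matrix

abbrev I14 : Type := Cfsg.Lie.chevG2.Idx

def pos : I14 → ℕ := Sum.elim (fun i => i) (fun i => i + 2)

def rows : List (List ℕ) := [[], [nat_lit 1, nat_lit 2, nat_lit 65540, nat_lit 131080, nat_lit 80, nat_lit 160, nat_lit 64, nat_lit 128, nat_lit 256, nat_lit 512, nat_lit 5120, nat_lit 10240, nat_lit 4096, nat_lit 8192, nat_lit 81921, nat_lit 163842, nat_lit 65536, nat_lit 131072, nat_lit 1310720, nat_lit 2621440, nat_lit 1048576, nat_lit 2097152, nat_lit 4194304, nat_lit 8388608, nat_lit 83886080, nat_lit 167772160, nat_lit 67108864, nat_lit 134217728], [nat_lit 85202001, nat_lit 170404002, nat_lit 188312807, nat_lit 220116089, nat_lit 85382630, nat_lit 170617467, nat_lit 85431735, nat_lit 170519257, nat_lit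 1311056, nat_lit 2622112, nat_lit 89585751, nat_lit 179002537, nat_lit 89631830, nat_lit 178910379, nat_lit 187673777, nat_lit 221639890, nat_lit 238745825, nat_lit 119495794, nat_lit 87741782, nat_lit 169831083, nat_lit 87004503, nat_lit 171305641, nat_lit 88085504, nat_lit 176171008, nat_lit 240571479, nat_lit 128673961, nat_lit 190288982, nat_lit 229238955], [nat_lit 67108865, nat_lit 134217730, nat_lit 4, nat_lit 8, nat_lit 67108884, nat_lit 134217768, nat_lit 65600, nat_lit 131200, nat_lit 1048832, nat_lit 2097664, nat_lit 4195328, nat_lit 8390656, nat_lit 4096, nat_lit 8192, nat_lit 16793600, nat_lit 33587200, nat_lit 65536, nat_lit 131072, nat_lit 262144, nat_lit 524288, nat_lit 1048576, nat_lit 2097152, nat_lit 4194304, nat_lit 8388608, nat_lit 16777216, nat_lit 33554432, nat_lit 67108864, nat_lit 134217728], [nat_lit 1, nat_lit 2, nat_lit 5, nat_lit 10, nat_lit 16777216, nat_lit 33554432, nat_lit 67108864, nat_lit 134217728, nat_lit 4194304, nat_lit 8388608, nat_lit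 262144, nat_lit 524288, nat_lit 1048576, nat_lit 2097152, nat_lit 16384, nat_lit 32768, nat_lit 65536, nat_lit 131072, nat_lit 1024, nat_lit 2048, nat_lit 4096, nat_lit 8192, nat_lit 256, nat_lit 512, nat_lit 16, nat_lit 32, nat_lit 64, nat_lit 128], [nat_lit 204615681, nat_lit 68358146, nat_lit 208666628, nat_lit 76546056, nat_lit 153429791, nat_lit 238696741, nat_lit 68358208, nat_lit 136388736, nat_lit 4207041, nat_lit 8393282, nat_lit 151069839, nat_lit 235026629, nat_lit 67309568, nat_lit 134291456, nat_lit 119299656, nat_lit 153397132, nat_lit 65536, nat_lit 131072, nat_lit 166010892, nat_lit 242888708, nat_lit 68354048, nat_lit 136380416, nat_lit 205651968, nat_lit 75694080, nat_lit 31522816, nat_lit 41025536, nat_lit 67108864, nat_lit 134217728], [nat_lit 1, nat_lit 2, nat_lit 196612, nat_lit 65544, nat_lit 208, nat_lit 96, nat_lit 64, nat_lit 128, nat_lit 256, nat_lit 512, nat_lit 13312, nat_lit 6144, nat_lit 4096, nat_lit 8192, nat_lit 147459, nat_lit 229377,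 nat_lit 65536, nat_lit 131072, nat_lit 3407872, nat_lit 1572864, nat_lit 1048576, nat_lit 2097152, nat_lit 4194304, nat_lit 8388608, nat_lit 218103808, nat_lit 100663296, nat_lit 67108864, nat_lit 134217728], [nat_lit 67108865, nat_lit 134217730, nat_lit 4, nat_lit 8, nat_lit 67108884, nat_lit 134217768, nat_lit 65600, nat_lit 131200, nat_lit 1048832, nat_lit 2097664, nat_lit 4195328, nat_lit 8390656, nat_lit 4096, nat_lit 8192, nat_lit 16793600, nat_lit 33587200, nat_lit 65536, nat_lit 131072, nat_lit 262144, nat_lit 524288, nat_lit 1048576, nat_lit 2097152, nat_lit 4194304, nat_lit 8388608, nat_lit 16777216, nat_lit 33554432, nat_lit 67108864, nat_lit 134217728], [nat_lit 134217729, nat_lit 201326594, nat_lit 4, nat_lit 8, nat_lit 201326616, nat_lit 67108908, nat_lit 131136, nat_lit 196736, nat_lit 2097408, nat_lit 3146240, nat_lit 8389632, nat_lit 12584960, nat_lit 4096, nat_lit 8192, nat_lit 33570816, nat_lit 50364416, nat_lit 65536, nat_lit 131072, nat_lit 262144,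 nat_lit 524288, nat_lit 1048576, nat_lit 2097152, nat_lit 4194304, nat_lit 8388608, nat_lit 16777216, nat_lit 33554432, nat_lit 67108864, nat_lit 134217728], [nat_lit 201326593, nat_lit 67108866, nat_lit 4, nat_lit 8, nat_lit 134217756, nat_lit 201326628, nat_lit 196672, nat_lit 65664, nat_lit 3145984, nat_lit 1049088, nat_lit 12583936, nat_lit 4196352, nat_lit 4096, nat_lit 8192, nat_lit 50348032, nat_lit 16809984, nat_lit 65536, nat_lit 131072, nat_lit 262144, nat_lit 524288, nat_lit 1048576, nat_lit 2097152, nat_lit 4194304, nat_lit 8388608, nat_lit 16777216, nat_lit 33554432, nat_lit 67108864, nat_lit 134217728], [nat_lit 16777217, nat_lit 33554434, nat_lit 16777220, nat_lit 33554440, nat_lit 16400, nat_lit 32800, nat_lit 16777285, nat_lit 33554570, nat_lit 262400, nat_lit 524800, nat_lit 1024, nat_lit 2048, nat_lit 4198400, nat_lit 8396800, nat_lit 16384, nat_lit 32768, nat_lit 67174400, nat_lit 134348800, nat_lit 262144, nat_lit 524288, nat_lit 1048576, nat_lit 2097152,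 nat_lit 4194304, nat_lit 8388608, nat_lit 16777216, nat_lit 33554432, nat_lit 67108864, nat_lit 134217728], [nat_lit 33554433, nat_lit 50331650, nat_lit 33554436, nat_lit 50331656, nat_lit 32784, nat_lit 49184, nat_lit 50331722, nat_lit 16777359, nat_lit 524544, nat_lit 786944, nat_lit 1024, nat_lit 2048, nat_lit 8392704, nat_lit 12591104, nat_lit 16384, nat_lit 32768, nat_lit 134283264, nat_lit 201457664, nat_lit 262144, nat_lit 524288, nat_lit 1048576, nat_lit 2097152, nat_lit 4194304, nat_lit 8388608, nat_lit 16777216, nat_lit 33554432, nat_lit 67108864, nat_lit 134217728], [nat_lit 50331649, nat_lit 16777218, nat_lit 50331652, nat_lit 16777224, nat_lit 49168, nat_lit 16416, nat_lit 33554511, nat_lit 50331781, nat_lit 786688, nat_lit 262656, nat_lit 1024, nat_lit 2048, nat_lit 12587008, nat_lit 4202496, nat_lit 16384, nat_lit 32768, nat_lit 201392128, nat_lit 67239936, nat_lit 262144, nat_lit 524288, nat_lit 1048576, nat_lit 2097152, nat_lit 4194304, nat_lit 8388608,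 nat_lit 16777216, nat_lit 33554432, nat_lit 67108864, nat_lit 134217728], [nat_lit 1, nat_lit 2, nat_lit 4194308, nat_lit 8388616, nat_lit 17040400, nat_lit 34080800, nat_lit 68161600, nat_lit 136323200, nat_lit 4194561, nat_lit 8389122, nat_lit 16778240, nat_lit 33556480, nat_lit 67112960, nat_lit 134225920, nat_lit 16384, nat_lit 32768, nat_lit 65536, nat_lit 131072, nat_lit 17039360, nat_lit 34078720, nat_lit 68157440, nat_lit 136314880, nat_lit 4194304, nat_lit 8388608, nat_lit 16777216, nat_lit 33554432, nat_lit 67108864, nat_lit 134217728], [nat_lit 1, nat_lit 2, nat_lit 8388612, nat_lit 12582920, nat_lit 17565712, nat_lit 33819680, nat_lit 70262848, nat_lit 135278720, nat_lit 12583170, nat_lit 4194819, nat_lit 50332672, nat_lit 16779264, nat_lit 201330688, nat_lit 67117056, nat_lit 16384, nat_lit 32768, nat_lit 65536, nat_lit 131072, nat_lit 33816576, nat_lit 50855936, nat_lit 135266304, nat_lit 203423744, nat_lit 4194304, nat_lit 8388608, nat_lit 16777216, nat_lit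 33554432, nat_lit 67108864, nat_lit 134217728], [nat_lit 1, nat_lit 2, nat_lit 12582916, nat_lit 4194312, nat_lit 17304592, nat_lit 34341920, nat_lit 69218368, nat_lit 137367680, nat_lit 8388867, nat_lit 12583425, nat_lit 33555456, nat_lit 50333696, nat_lit 134221824, nat_lit 201334784, nat_lit 16384, nat_lit 32768, nat_lit 65536, nat_lit 131072, nat_lit 50593792, nat_lit 17301504, nat_lit 202375168, nat_lit 69206016, nat_lit 4194304, nat_lit 8388608, nat_lit 16777216, nat_lit 33554432, nat_lit 67108864, nat_lit 134217728], [nat_lit 1048577, nat_lit 2097154, nat_lit 1048580, nat_lit 2097160, nat_lit 69904, nat_lit 139808, nat_lit 64, nat_lit 128, nat_lit 65792, nat_lit 131584, nat_lit 1049605, nat_lit 2099210, nat_lit 69632, nat_lit 139264, nat_lit 71581696, nat_lit 143163392, nat_lit 65536, nat_lit 131072, nat_lit 67371008, nat_lit 134742016, nat_lit 1048576, nat_lit 2097152, nat_lit 71303168, nat_lit 142606336, nat_lit 16777216, nat_lit 33554432, nat_lit 67108864, nat_lit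 134217728], [nat_lit 2097153, nat_lit 3145730, nat_lit 2097156, nat_lit 3145736, nat_lit 78352, nat_lit 135968, nat_lit 64, nat_lit 128, nat_lit 196864, nat_lit 66048, nat_lit 3146762, nat_lit 1050639, nat_lit 135168, nat_lit 204800, nat_lit 80232448, nat_lit 139231232, nat_lit 65536, nat_lit 131072, nat_lit 201588736, nat_lit 67633152, nat_lit 1048576, nat_lit 2097152, nat_lit 138412032, nat_lit 209715200, nat_lit 16777216, nat_lit 33554432, nat_lit 67108864, nat_lit 134217728], [nat_lit 3145729, nat_lit 1048578, nat_lit 3145732, nat_lit 1048584, nat_lit 74512, nat_lit 143648, nat_lit 64, nat_lit 128, nat_lit 131328, nat_lit 197120, nat_lit 2098191, nat_lit 3147781, nat_lit 200704, nat_lit 73728, nat_lit 76300288, nat_lit 147095552, nat_lit 65536, nat_lit 131072, nat_lit 134479872, nat_lit 201850880, nat_lit 1048576, nat_lit 2097152, nat_lit 205520896, nat_lit 75497472, nat_lit 16777216, nat_lit 33554432, nat_lit 67108864, nat_lit 134217728], [nat_lit 262145, nat_lit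 524290, nat_lit 4, nat_lit 8, nat_lit 16, nat_lit 32, nat_lit 17728, nat_lit 35456, nat_lit 16640, nat_lit 33280, nat_lit 17408, nat_lit 34816, nat_lit 266244, nat_lit 532488, nat_lit 16384, nat_lit 32768, nat_lit 22085632, nat_lit 44171264, nat_lit 262144, nat_lit 524288, nat_lit 17825792, nat_lit 35651584, nat_lit 20971520, nat_lit 41943040, nat_lit 16777216, nat_lit 33554432, nat_lit 67108864, nat_lit 134217728], [nat_lit 524289, nat_lit 786434, nat_lit 4, nat_lit 8, nat_lit 16, nat_lit 32, nat_lit 20032, nat_lit 34688, nat_lit 49408, nat_lit 16896, nat_lit 33792, nat_lit 51200, nat_lit 790536, nat_lit 270348, nat_lit 16384, nat_lit 32768, nat_lit 31522816, nat_lit 41025536, nat_lit 262144, nat_lit 524288, nat_lit 51380224, nat_lit 18874368, nat_lit 37748736, nat_lit 58720256, nat_lit 16777216, nat_lit 33554432, nat_lit 67108864, nat_lit 134217728], [nat_lit 786433, nat_lit 262146, nat_lit 4, nat_lit 8, nat_lit 16, nat_lit 32, nat_lit 19264, nat_lit 36224, nat_lit 33024,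 nat_lit 49664, nat_lit 50176, nat_lit 18432, nat_lit 528396, nat_lit 794628, nat_lit 16384, nat_lit 32768, nat_lit 28377088, nat_lit 47316992, nat_lit 262144, nat_lit 524288, nat_lit 34603008, nat_lit 52428800, nat_lit 54525952, nat_lit 25165824, nat_lit 16777216, nat_lit 33554432, nat_lit 67108864, nat_lit 134217728], [nat_lit 1, nat_lit 2, nat_lit 65540, nat_lit 131080, nat_lit 80, nat_lit 160, nat_lit 64, nat_lit 128, nat_lit 256, nat_lit 512, nat_lit 5120, nat_lit 10240, nat_lit 4096, nat_lit 8192, nat_lit 81921, nat_lit 163842, nat_lit 65536, nat_lit 131072, nat_lit 1310720, nat_lit 2621440, nat_lit 1048576, nat_lit 2097152, nat_lit 4194304, nat_lit 8388608, nat_lit 83886080, nat_lit 167772160, nat_lit 67108864, nat_lit 134217728], [nat_lit 1, nat_lit 2, nat_lit 131076, nat_lit 196616, nat_lit 144, nat_lit 224, nat_lit 64, nat_lit 128, nat_lit 256, nat_lit 512, nat_lit 9216, nat_lit 14336, nat_lit 4096, nat_lit 8192, nat_lit 212994, nat_lit 98307, nat_lit 65536, nat_lit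 131072, nat_lit 2359296, nat_lit 3670016, nat_lit 1048576, nat_lit 2097152, nat_lit 4194304, nat_lit 8388608, nat_lit 150994944, nat_lit 234881024, nat_lit 67108864, nat_lit 134217728], [nat_lit 1, nat_lit 2, nat_lit 196612, nat_lit 65544, nat_lit 208, nat_lit 96, nat_lit 64, nat_lit 128, nat_lit 256, nat_lit 512, nat_lit 13312, nat_lit 6144, nat_lit 4096, nat_lit 8192, nat_lit 147459, nat_lit 229377, nat_lit 65536, nat_lit 131072, nat_lit 3407872, nat_lit 1572864, nat_lit 1048576, nat_lit 2097152, nat_lit 4194304, nat_lit 8388608, nat_lit 218103808, nat_lit 100663296, nat_lit 67108864, nat_lit 134217728], [nat_lit 1, nat_lit 2, nat_lit 16388, nat_lit 32776, nat_lit 16, nat_lit 32, nat_lit 80, nat_lit 160, nat_lit 256, nat_lit 512, nat_lit 1024, nat_lit 2048, nat_lit 5120, nat_lit 10240, nat_lit 16384, nat_lit 32768, nat_lit 81921, nat_lit 163842, nat_lit 262144, nat_lit 524288, nat_lit 1310720, nat_lit 2621440, nat_lit 4194304, nat_lit 8388608, nat_lit 16777216, nat_lit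 33554432, nat_lit 83886080, nat_lit 167772160], [nat_lit 1, nat_lit 2, nat_lit 32772, nat_lit 49160, nat_lit 16, nat_lit 32, nat_lit 96, nat_lit 176, nat_lit 256, nat_lit 512, nat_lit 1024, nat_lit 2048, nat_lit 6144, nat_lit 11264, nat_lit 16384, nat_lit 32768, nat_lit 114690, nat_lit 147459, nat_lit 262144, nat_lit 524288, nat_lit 1572864, nat_lit 2883584, nat_lit 4194304, nat_lit 8388608, nat_lit 16777216, nat_lit 33554432, nat_lit 100663296, nat_lit 184549376], [nat_lit 1, nat_lit 2, nat_lit 49156, nat_lit 16392, nat_lit 16, nat_lit 32, nat_lit 112, nat_lit 144, nat_lit 256, nat_lit 512, nat_lit 1024, nat_lit 2048, nat_lit 7168, nat_lit 9216, nat_lit 16384, nat_lit 32768, nat_lit 98307, nat_lit 180225, nat_lit 262144, nat_lit 524288, nat_lit 1835008, nat_lit 2359296, nat_lit 4194304, nat_lit 8388608, nat_lit 16777216, nat_lit 33554432, nat_lit 117440512, nat_lit 150994944], [nat_lit 4097, nat_lit 8194, nat_lit 4, nat_lit 8, nat_lit 16, nat_lit 32, nat_lit 64, nat_lit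 128, nat_lit 320, nat_lit 640, nat_lit 1088, nat_lit 2176, nat_lit 4096, nat_lit 8192, nat_lit 17728, nat_lit 35456, nat_lit 65536, nat_lit 131072, nat_lit 266244, nat_lit 532488, nat_lit 1114112, nat_lit 2228224, nat_lit 4259840, nat_lit 8519680, nat_lit 22085632, nat_lit 44171264, nat_lit 67108864, nat_lit 134217728], [nat_lit 8193, nat_lit 12290, nat_lit 4, nat_lit 8, nat_lit 16, nat_lit 32, nat_lit 64, nat_lit 128, nat_lit 384, nat_lit 704, nat_lit 1216, nat_lit 2112, nat_lit 4096, nat_lit 8192, nat_lit 19264, nat_lit 36224, nat_lit 65536, nat_lit 131072, nat_lit 274440, nat_lit 528396, nat_lit 1179648, nat_lit 2293760, nat_lit 4390912, nat_lit 8454144, nat_lit 28377088, nat_lit 47316992, nat_lit 67108864, nat_lit 134217728], [nat_lit 12289, nat_lit 4098, nat_lit 4, nat_lit 8, nat_lit 16, nat_lit 32, nat_lit 64, nat_lit 128, nat_lit 448, nat_lit 576, nat_lit 1152, nat_lit 2240, nat_lit 4096, nat_lit 8192, nat_lit 20032, nat_lit 34688, nat_lit 65536, nat_lit 131072,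 nat_lit 270348, nat_lit 536580, nat_lit 1245184, nat_lit 2162688, nat_lit 4325376, nat_lit 8585216, nat_lit 31522816, nat_lit 41025536, nat_lit 67108864, nat_lit 134217728], [nat_lit 1025, nat_lit 2050, nat_lit 1028, nat_lit 2056, nat_lit 16, nat_lit 32, nat_lit 64, nat_lit 128, nat_lit 272, nat_lit 544, nat_lit 1024, nat_lit 2048, nat_lit 4112, nat_lit 8224, nat_lit 16384, nat_lit 32768, nat_lit 69904, nat_lit 139808, nat_lit 278528, nat_lit 557056, nat_lit 1049605, nat_lit 2099210, nat_lit 4210688, nat_lit 8421376, nat_lit 16777216, nat_lit 33554432, nat_lit 71581696, nat_lit 143163392], [nat_lit 2049, nat_lit 3074, nat_lit 2052, nat_lit 3080, nat_lit 16, nat_lit 32, nat_lit 64, nat_lit 128, nat_lit 288, nat_lit 560, nat_lit 1024, nat_lit 2048, nat_lit 4144, nat_lit 8208, nat_lit 16384, nat_lit 32768, nat_lit 74512, nat_lit 143648, nat_lit 294912, nat_lit 573440, nat_lit 1051658, nat_lit 2098191, nat_lit 4243456, nat_lit 8404992, nat_lit 16777216, nat_lit 33554432, nat_lit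 76300288, nat_lit 147095552], [nat_lit 3073, nat_lit 1026, nat_lit 3076, nat_lit 1032, nat_lit 16, nat_lit 32, nat_lit 64, nat_lit 128, nat_lit 304, nat_lit 528, nat_lit 1024, nat_lit 2048, nat_lit 4128, nat_lit 8240, nat_lit 16384, nat_lit 32768, nat_lit 78352, nat_lit 135968, nat_lit 311296, nat_lit 540672, nat_lit 1050639, nat_lit 2100229, nat_lit 4227072, nat_lit 8437760, nat_lit 16777216, nat_lit 33554432, nat_lit 80232448, nat_lit 139231232], [nat_lit 1, nat_lit 2, nat_lit 260, nat_lit 520, nat_lit 16, nat_lit 32, nat_lit 64, nat_lit 128, nat_lit 256, nat_lit 512, nat_lit 1040, nat_lit 2080, nat_lit 4160, nat_lit 8320, nat_lit 16384, nat_lit 32768, nat_lit 65536, nat_lit 131072, nat_lit 262160, nat_lit 524320, nat_lit 1048640, nat_lit 2097280, nat_lit 4194561, nat_lit 8389122, nat_lit 17040400, nat_lit 34080800, nat_lit 68161600, nat_lit 136323200], [nat_lit 1, nat_lit 2, nat_lit 516, nat_lit 776, nat_lit 16, nat_lit 32, nat_lit 64, nat_lit 128, nat_lit 256, nat_lit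 512, nat_lit 1056, nat_lit 2096, nat_lit 4224, nat_lit 8384, nat_lit 16384, nat_lit 32768, nat_lit 65536, nat_lit 131072, nat_lit 262192, nat_lit 524304, nat_lit 1048768, nat_lit 2097216, nat_lit 4195074, nat_lit 8388867, nat_lit 17304592, nat_lit 34341920, nat_lit 69218368, nat_lit 137367680], [nat_lit 1, nat_lit 2, nat_lit 772, nat_lit 264, nat_lit 16, nat_lit 32, nat_lit 64, nat_lit 128, nat_lit 256, nat_lit 512, nat_lit 1072, nat_lit 2064, nat_lit 4288, nat_lit 8256, nat_lit 16384, nat_lit 32768, nat_lit 65536, nat_lit 131072, nat_lit 262176, nat_lit 524336, nat_lit 1048704, nat_lit 2097344, nat_lit 4194819, nat_lit 8389377, nat_lit 17565712, nat_lit 33819680, nat_lit 70262848, nat_lit 135278720], [nat_lit 65, nat_lit 130, nat_lit 68, nat_lit 136, nat_lit 16, nat_lit 32, nat_lit 64, nat_lit 128, nat_lit 256, nat_lit 512, nat_lit 1024, nat_lit 2048, nat_lit 4096, nat_lit 8192, nat_lit 16400, nat_lit 32800, nat_lit 65536, nat_lit 131072, nat_lit 262400, nat_lit 524800,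 nat_lit 1048576, nat_lit 2097152, nat_lit 4198400, nat_lit 8396800, nat_lit 16777285, nat_lit 33554570, nat_lit 67174400, nat_lit 134348800], [nat_lit 129, nat_lit 194, nat_lit 132, nat_lit 200, nat_lit 16, nat_lit 32, nat_lit 64, nat_lit 128, nat_lit 256, nat_lit 512, nat_lit 1024, nat_lit 2048, nat_lit 4096, nat_lit 8192, nat_lit 16416, nat_lit 32816, nat_lit 65536, nat_lit 131072, nat_lit 262656, nat_lit 525056, nat_lit 1048576, nat_lit 2097152, nat_lit 4202496, nat_lit 8400896, nat_lit 16777418, nat_lit 33554511, nat_lit 67239936, nat_lit 134414336], [nat_lit 193, nat_lit 66, nat_lit 196, nat_lit 72, nat_lit 16, nat_lit 32, nat_lit 64, nat_lit 128, nat_lit 256, nat_lit 512, nat_lit 1024, nat_lit 2048, nat_lit 4096, nat_lit 8192, nat_lit 16432, nat_lit 32784, nat_lit 65536, nat_lit 131072, nat_lit 262912, nat_lit 524544, nat_lit 1048576, nat_lit 2097152, nat_lit 4206592, nat_lit 8392704, nat_lit 16777359, nat_lit 33554629, nat_lit 67305472, nat_lit 134283264], [nat_lit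 17, nat_lit 34, nat_lit 4, nat_lit 8, nat_lit 16, nat_lit 32, nat_lit 64, nat_lit 128, nat_lit 256, nat_lit 512, nat_lit 1024, nat_lit 2048, nat_lit 4096, nat_lit 8192, nat_lit 16384, nat_lit 32768, nat_lit 65600, nat_lit 131200, nat_lit 262144, nat_lit 524288, nat_lit 1048832, nat_lit 2097664, nat_lit 4195328, nat_lit 8390656, nat_lit 16793600, nat_lit 33587200, nat_lit 67108884, nat_lit 134217768], [nat_lit 33, nat_lit 50, nat_lit 4, nat_lit 8, nat_lit 16, nat_lit 32, nat_lit 64, nat_lit 128, nat_lit 256, nat_lit 512, nat_lit 1024, nat_lit 2048, nat_lit 4096, nat_lit 8192, nat_lit 16384, nat_lit 32768, nat_lit 65664, nat_lit 131264, nat_lit 262144, nat_lit 524288, nat_lit 1049088, nat_lit 2097920, nat_lit 4196352, nat_lit 8391680, nat_lit 16809984, nat_lit 33603584, nat_lit 67108920, nat_lit 134217756], [nat_lit 49, nat_lit 18, nat_lit 4, nat_lit 8, nat_lit 16, nat_lit 32, nat_lit 64, nat_lit 128, nat_lit 256, nat_lit 512, nat_lit 1024, nat_lit 2048, nat_lit 4096, nat_lit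 8192, nat_lit 16384, nat_lit 32768, nat_lit 65728, nat_lit 131136, nat_lit 262144, nat_lit 524288, nat_lit 1049344, nat_lit 2097408, nat_lit 4197376, nat_lit 8389632, nat_lit 16826368, nat_lit 33570816, nat_lit 67108908, nat_lit 134217780]]

noncomputable def rw (x : ℕ) : ℕ → ℕ := nthN (nthW rows x)

noncomputable def imgM (x p : ℕ) : ℕ := xv (rw x) p (2 * 14)

theorem hω : ∀ x < 43, ∀ i j : I14,
    dec4 pos (rw x (2 * pos i + 1)) j = F4.mk 2 * dec4 pos (rw x (2 * pos i)) j := by decide +kernel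

theorem hact : MAct (fun x => mat4 pos (rw x)) (dec4 pos) imgM 43 :=
  mact4' (by decide +kernel) (by decide +kernel) hω

theorem hbas : ∀ i, dec4 pos (4 ^ pos i) = Pi.single i 1 := by decide +kernel

theorem hsq' : ∀ x < 43, 1 ≤ x → ∀ i, imgM x (imgM x (4 ^ pos i)) = 4 ^ pos i := by decide +kernel

theorem hsq (x : ℕ) (h : 1 ≤ x ∧ x < 43) : mat4 pos (rw x) * mat4 pos (rw x) = 1 :=
  hact.mul_eq_one hbas h h (hsq' x h.2 h.1)

def mkGL (A : Matrix I14 I14 F4) (h : A * A = 1) : GL I14 F4 := ⟨A, A, h, h⟩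

noncomputable def evM (x : ℕ) : GL I14 F4 := if h : 1 ≤ x ∧ x < 43 then mkGL _ (hsq x h) else 1

theorem hμ : ∀ x, 1 ≤ x → x < 43 → Units.coeHom _ (evM x) = mat4 pos (rw x) := by
  intro x h1 h2
  unfold evM
  rw [dif_pos ⟨h1, h2⟩]
  rfl

theorem oraM : Oracle evM imgM 43 [1,4,16,64,256,1024,4096,16384,65536,262144,1048576,4194304,16777216,67108864] :=
  hact.oracle Units.val_injective hμ hbas (by decide +kernel)

theorem hroot : ∀ (r : Fin 12) (t : Fin 3), matEq (Cfsg.Lie.chevG2.xMat F4 r (F4.mk (t + 1)))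
    (mat4 pos (rw (7 + 3 * r + t))) = true := by decide +kernel

theorem hzero : ∀ r : Fin 12, matEq (Cfsg.Lie.chevG2.xMat F4 r 0) 1 = true := by decide +kernel

theorem f4cases : ∀ t : F4, t = 0 ∨ ∃ s : Fin 3, t = F4.mk (s + 1) := by decide +kernel

/-- The first six letters as words in root elements. -/
def W1 : List (List ℕ) := [[7,34,13,34,7,34,13,34,7,34,13,34,7,34,13,34], [25,8,34,7,34,8,25], [7], [34,13,34], [13,39,13,39,13], [11,39,7,39,11]]

/-- The root elements as words in the first six letters. -/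
def W2 : List (List ℕ) := [[3], [2,3,6,2,1,2,3,6,2], [2,3,2,6,2,1,2,3,6,2], [2,3,5,4,3,2,1,2,3,4,3,2,5], [2,3,5,4,3,2,1,6,2,3,4,3,2,5], [2,3,5,4,3,2,6,2,3,4,3,2,5], [2,1,2,1,4,5,6,2,1,3,4,3,2,1,5,4,6,2,1,2], [2,1,2,3,4,5,6,2,1,2,1,3,4,3,2,1,2,5,6,4,3,2,1,2], [4,3,2,4,3,4,6,2,3,4,3,5,4,3,2,4,3,4,6,2,3,4,3], [6,2,1,2,3,2,4,3,2,1,4,5,6,2,3,4,3,2,6,5,4,1,2,3,4,2,3,2,1,2], [1,2,1,2,4,3,2,1,4,5,6,2,3,4,3,2,1,5,4,6,2,3,4,2,1,2], [1,2,4,3,4,3,2,1,5,6,2,3,4,3,2,1,5,6,2,3,4,3,2,6,4], [4,3,2,1,2,4,5,4,3,6,2,3,4,3,2,4,5,4,6,2,1,2,3,4], [1,2,3,6,2,1,3,4,3,2,5,4,3,2,6,2,1,2,3,4,5,3,2,1], [1,3,2,5,4,3,4,3,5,6,2,1,2,3,4,3,5,4,3,2,1,2,6,3,4,5,3,1,2,1], [1], [1,6], [6], [2,1,2,5,4,3,2,1,2,4,5], [2,1,5,4,3,6,2,1,2,1,3,4,5,6,2], [1,2,5,4,6,2,1,3,2,1,4,5,6], [2,6,2,1,2,3,2,4,5,6,2,1,2,3,4,3,2,5,4,3,1,2,6,2,3,2,1,2], [1,2,1,2,3,2,1,4,5,6,2,3,4,3,2,1,5,4,6,2,3,2,1,2], [1,2,3,4,3,2,1,5,6,2,3,4,3,2,1,5,6,2,3,4,3,2,6], [3,2,1,2,4,5,4,3,2,6,2,3,4,3,2,4,5,4,6,1,2,3], [1,2,4,3,6,2,1,3,4,3,2,5,4,3,2,6,2,1,2,3,4,5,3,4,2,1],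 [1,3,2,1,5,4,3,2,4,3,4,5,6,2,1,3,2,4,5,6,3,4,2,3,1,2,6,5,2,3], [2,1,2,1,5,6,2,1,3,4,3,2,1,5,6,2,1,2], [2,1,2,4,3,4,5,6,2,1,2,1,3,4,3,2,1,2,6,5,4,3,4,2,1,2], [1,3,2,4,3,2,4,6,2,3,4,3,5,4,3,2,4,3,4,6,2,3], [4,3,4], [2,4,3,6,2,1,2,3,4,6,2], [2,4,3,2,6,2,1,2,3,4,6,2], [2,4,3,5,4,3,2,1,2,3,4,3,2,5,4], [2,4,3,5,4,3,2,1,6,2,3,4,3,2,5,4], [2,4,3,5,4,3,2,6,2,3,4,3,2,5,4]]

theorem root_mem (x : ℕ) (h : 7 ≤ x ∧ x < 43) : evM x ∈ Cfsg.Lie.chevG2.group F4 := by
  refine Subgroup.subset_closure ⟨(⟨(x - 7) / 3, by omega⟩ : Fin 12),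
    F4.mk ((⟨(x - 7) % 3, by omega⟩ : Fin 3) + 1), ?_⟩
  rw [eq_of_matEq (hroot _ _), show 7 + 3 * ((x - 7) / 3) + (x - 7) % 3 = x by omega]
  exact hμ x (by omega) h.2

theorem gen_eq : gen evM X = Cfsg.Lie.chevG2.group F4 := by
  apply le_antisymm
  · refine gen_le fun w hw => oraM.mem_of_words (W := W1) (fun u hu => evL_mem_of_letters ?_)
      (by decide +kernel) w hw
    intro x hx
    refine root_mem x ?_
    revert x u
    decide +kernel
  · refine (Subgroup.closure_le _).2 ?_
    rintro g ⟨r, t, hg⟩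
    rcases f4cases t with rfl | ⟨s, rfl⟩
    · rw [eq_of_matEq (hzero r)] at hg
      rw [show g = 1 from Units.ext hg]
      exact Subgroup.one_mem _
    · have hr : (r : ℕ) < 12 := r.2
      rw [eq_of_matEq (hroot r s), ← hμ _ (by omega) (by omega)] at hg
      rw [show g = _ from Units.ext hg, ← evL_singleton evM]
      refine oraM.mem_of_words (W := W2) (T := (List.range 36).map fun x => [x + 7])
        (mem_of_letChk (by decide +kernel)) (by decide +kernel) _
        (List.mem_map.mpr ⟨3 * r + s, List.mem_range.mpr (by omega), by congr 1; omega⟩)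

def sg : List (List ℕ) := [[], [1], [2], [3], [4], [5], [6]]

theorem iso_chev : Nonempty (Grp ≃* Cfsg.Lie.chevG2.group F4) := by
  have := simple
  obtain ⟨ψ, hψ⟩ := lift (oraM.good_evS (σ := sg) (by decide +kernel))
    (oraM.rels_evS (by decide +kernel))
  have h := equiv_gen_of_simple ψ hψ hX (w := [1]) (by
    rw [evL_subst]
    exact hact.ne hμ (w := []) (p := 4) (i := Sum.inr ⟨6, by decide⟩) (by decide +kernel) (by decide +kernel)
      (by decide +kernel))
  rwa [gen_evS, show X.map (subst sg) = X by decide +kernel, gen_eq] at h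

theorem iso_sub : Nonempty (Grp ≃* gen Suz.ev Suz.Ws) := by
  have := simple
  obtain ⟨ψ, hψ⟩ := lift (good_evS Suz.hev Suz.hR (σ := sg) (by decide +kernel))
    (rels_evS Suz.hev Suz.hR (by decide +kernel))
  have h := equiv_gen_of_simple ψ hψ hX (w := [1]) (by
    rw [evL_subst]
    exact Suz.hφ.ne_one (p := 3) (by decide +kernel))
  rwa [gen_evS, show X.map (subst sg) = Suz.Ws by decide +kernel] at h

end Cfsg.H6.G24
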